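import Groth.Agent.Hartogs.Basic
import Groth.Agent.Para81.LocDescend
import Mathlib

/-!
# Hartogs across points with Noetherian local rings of depth at least two, on an arbitrary scheme
-/

set_option linter.style.haveILetI false

universe u

open AlgebraicGeometry CategoryTheory TopologicalSpace Opposite
open Groth.Agent.AModX Groth.Agent.Para81

namespace Groth.Agent.Hartogs28

/-- The condition on the primes outside an open of an affine scheme. -/
def DepthTwo {A : CommRingCat.{u}} (U : (Spec A).Opens) : Prop :=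
  ∀ p : PrimeSpectrum A, p ∉ U → IsNoetherianRing (Localization.AtPrime p.asIdeal) ∧
    (2 : ℕ∞) ≤ LocCoh.depth (Localization.AtPrime p.asIdeal) (Localization.AtPrime p.asIdeal)

section Spec

variable {A : CommRingCat.{u}} {U : (Spec A).Opens} (hU : DepthTwo U)

/-- The local ring at a prime. -/
noncomputable def Ap (p : PrimeSpectrum A) : CommRingCat.{u} := CommRingCat.of (Localization.AtPrime p.asIdeal)

noncomputable instance algebraAp (p : PrimeSpectrum A) : Algebra A (Ap p) :=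
  inferInstanceAs (Algebra A (Localization.AtPrime p.asIdeal))

instance isLocalizationAp (p : PrimeSpectrum A) : IsLocalization p.asIdeal.primeCompl (Ap p) :=
  inferInstanceAs (IsLocalization p.asIdeal.primeCompl (Localization.AtPrime p.asIdeal))

include hU in
theorem ap_bijective (p : PrimeSpectrum A) (hp : p ∉ U) :
    Function.Bijective ((Spec (Ap p)).presheaf.map (homOfLE (le_top : spMap A (Ap p) ⁻¹ᵁ U ≤ ⊤)).op) := by
  haveI : IsNoetherianRing (Localization.AtPrime p.asIdeal) := (hU p hp).1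
  refine Hartogs.spec_bijective (Localization.AtPrime p.asIdeal) (spMap A (Ap p) ⁻¹ᵁ U) fun q hq => ?_
  let q' : PrimeSpectrum A := ⟨q.asIdeal.comap (algebraMap A (Localization.AtPrime p.asIdeal)), inferInstance⟩
  have hd := (hU q' hq).2
  let σ : Localization.AtPrime q'.asIdeal ≃ₐ[A] Localization.AtPrime q.asIdeal :=
    IsLocalization.localizationLocalizationAtPrimeIsoLocalization p.asIdeal.primeCompl q.asIdeal
  rwa [Alg6.depth_eq_of_semilinear σ.toRingEquiv.toRingHom σ.surjective σ.toRingEquiv.toAddEquiv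
    (fun r z => map_mul σ r z)] at hd

include hU in
/-- Functions vanishing on the open vanish near every point. -/
theorem zero_near {V : (Spec A).Opens} (x : Γ(Spec A, V)) (hx : resR (inf_le_left : V ⊓ U ≤ V) x = 0)
    (p : PrimeSpectrum A) (hpV : p ∈ V) :
    ∃ (W : (Spec A).Opens) (h : W ≤ V), p ∈ W ∧ resR h x = 0 := by
  by_cases hpU : p ∈ U
  · exact ⟨V ⊓ U, inf_le_left, ⟨hpV, hpU⟩, hx⟩
  obtain ⟨_, ⟨g, rfl⟩, hpg, hgV⟩ := PrimeSpectrum.isTopologicalBasis_basic_opens.exists_subset_of_mem_open hpV V.isOpen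
  have hgV' : bo g ≤ V := hgV
  let ψ := spMap A (Ap p)
  have htop : ⊤ ≤ ψ ⁻¹ᵁ bo g := fun q _ hmem =>
    q.isPrime.ne_top (q.asIdeal.eq_top_of_isUnit_mem hmem
      (IsLocalization.map_units (M := p.asIdeal.primeCompl) _ ⟨g, hpg⟩))
  have h0 : ψ.app (bo g) (resR hgV' x) = 0 := by
    have h1 : resR htop (ψ.app (bo g) (resR hgV' x)) = 0 := by
      refine (ap_bijective hU p hpU).1 ?_
      rw [map_zero]
      show resR _ (resR htop _) = 0
      have z : resR (inf_le_left.trans hgV' : bo g ⊓ U ≤ V) x = 0 := by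
        rw [← resR_resR (inf_le_left : V ⊓ U ≤ V) (inf_le_inf_right U hgV'), hx, map_zero]
      have e : resR ((ψ.preimage_mono (inf_le_left : bo g ⊓ U ≤ bo g))) (ψ.app (bo g) (resR hgV' x)) = 0 := by
        rw [← app_resR ψ (inf_le_left : bo g ⊓ U ≤ bo g), resR_resR, z, map_zero]
      have hle : ψ ⁻¹ᵁ U ≤ ψ ⁻¹ᵁ (bo g ⊓ U) := fun q hq => ⟨htop trivial, hq⟩
      have := congrArg (resR hle) e
      rw [resR_resR, map_zero] at this
      rw [resR_resR]
      exact this
    have h2 := congrArg (resR (le_top : ψ ⁻¹ᵁ bo g ≤ ⊤)) h1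
    rw [resR_resR, map_zero] at h2
    simpa using h2
  obtain ⟨s, hs, hzero⟩ := zero_descend p.asIdeal.primeCompl (B := Ap p) rfl (resR hgV' x) h0
  refine ⟨bo g ⊓ bo s, inf_le_left.trans hgV', ⟨hpg, hs⟩, ?_⟩
  rw [← hzero (bo g ⊓ bo s) inf_le_left inf_le_right, resR_resR]

include hU in
theorem spec_sep {V : (Spec A).Opens} (x y : Γ(Spec A, V))
    (h : resR (inf_le_left : V ⊓ U ≤ V) x = resR inf_le_left y) : x = y := by
  choose W hW hpW hz using fun p : V => zero_near hU (x - y) (by rw [map_sub, h, sub_self]) p.1 p.2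
  refine (Spec A).sheaf.eq_of_locally_eq' W V (fun p => homOfLE (hW p))
    (fun p hp => Opens.mem_iSup.2 ⟨⟨p, hp⟩, hpW ⟨p, hp⟩⟩) x y fun p => ?_
  exact sub_eq_zero.1 ((map_sub (resR (hW p)) x y).symm.trans (hz p))

include hU in
/-- A function on a compact open extends near every point outside it. -/
theorem extend_near (hc : IsCompact (U : Set (Spec A))) (x : Γ(Spec A, U)) (p : PrimeSpectrum A) (hp : p ∉ U) :
    ∃ (W : (Spec A).Opens) (y : Γ(Spec A, W)), p ∈ W ∧
      resR (inf_le_left : W ⊓ U ≤ W) y = resR (inf_le_right : W ⊓ U ≤ U) x := by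
  let ψ := spMap A (Ap p)
  obtain ⟨b, hb⟩ := (ap_bijective hU p hp).2 (ψ.app U x)
  obtain ⟨b₁, rfl⟩ : ∃ b₁, algebraMap (Ap p) Γ(Spec (Ap p), ⊤) b₁ = b := by
    refine ⟨(Scheme.ΓSpecIso (Ap p)).hom b, ?_⟩
    exact Iso.hom_inv_id_apply (Scheme.ΓSpecIso (Ap p)) b
  have hb' : algebraMap (Ap p) Γ(Spec (Ap p), ψ ⁻¹ᵁ U) b₁ = ψ.app U x := hb
  obtain ⟨⟨a, t⟩, hat⟩ := IsLocalization.surj (M := p.asIdeal.primeCompl) (S := (Ap p)) b₁
  simp only at hat
  let σ : Γ(Spec A, U) := x * algebraMap A Γ(Spec A, U) t.1 - algebraMap A Γ(Spec A, U) a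
  have hσ : ψ.app U σ = 0 := by
    rw [map_sub, map_mul, app_algebraMap, app_algebraMap, ← hb', ← map_mul, sub_eq_zero]
    exact congrArg _ hat
  obtain ⟨T, hT⟩ : ∃ T : Finset A, (U : Set (Spec A)) = ⋃ g ∈ T, ((bo g : (Spec A).Opens) : Set (Spec A)) := by
    obtain ⟨T, h⟩ := PrimeSpectrum.isCompact_isOpen_iff.mp ⟨hc, U.isOpen⟩
    refine ⟨T, h.symm.trans ?_⟩
    ext q
    refine ⟨fun hq => ?_, fun hq hq' => ?_⟩
    · obtain ⟨g, hg, hgq⟩ := Set.not_subset.mp hq
      exact Set.mem_biUnion hg hgq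
    · obtain ⟨g, hg, hgq⟩ := Set.mem_iUnion₂.mp hq
      exact hgq (hq' hg)
  have hle : ∀ g ∈ T, bo g ≤ U := fun g hg q hq => by
    show q ∈ (U : Set (Spec A))
    rw [hT]; exact Set.mem_biUnion hg hq
  choose s hs hzero using fun g : T => zero_descend p.asIdeal.primeCompl (B := Ap p) rfl
    (resR (hle g.1 g.2) σ) (by rw [app_resR, hσ, map_zero])
  let h := t.1 * ∏ g, s g
  have hh : h ∈ p.asIdeal.primeCompl := mul_mem t.2 (prod_mem fun g _ => hs g)
  have hu : IsUnit (algebraMap A Γ(Spec A, bo h) t.1) := isUnit_algebraMap_of_le (by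
    rw [bo, bo, PrimeSpectrum.basicOpen_mul]; exact inf_le_left)
  refine ⟨bo h, algebraMap A Γ(Spec A, bo h) a * ↑hu.unit⁻¹, hh, ?_⟩
  have hσ0 : resR (inf_le_right : bo h ⊓ U ≤ U) σ = 0 := by
    refine (Spec A).sheaf.eq_of_locally_eq' (fun g : T => bo h ⊓ bo g.1) _
      (fun g => homOfLE (inf_le_inf_left _ (hle g.1 g.2))) (fun q hq => ?_) _ _ fun g => ?_
    · have hqU : q ∈ (U : Set (Spec A)) := hq.2
      rw [hT] at hqU
      obtain ⟨g, hg, hqg⟩ := Set.mem_iUnion₂.1 hqU
      exact Opens.mem_iSup.2 ⟨⟨g, hg⟩, hq.1, hqg⟩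
    · show resR _ (resR _ σ) = resR _ 0
      rw [map_zero, resR_resR, ← hzero g (bo h ⊓ bo g.1) inf_le_right ?_, resR_resR]
      refine inf_le_left.trans ?_
      intro q hq
      have hq' : h ∉ q.asIdeal := hq
      exact fun hm => hq' (Ideal.mul_mem_left _ _ (Ideal.mem_of_dvd _ (Finset.dvd_prod_of_mem s (Finset.mem_univ g)) hm))
  simp only [σ, map_sub, map_mul, resR_algebraMap, sub_eq_zero] at hσ0
  rw [map_mul, resR_algebraMap, ← hσ0, mul_assoc, ← resR_algebraMap (inf_le_left : bo h ⊓ U ≤ bo h) t.1, ← map_mul,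
    IsUnit.mul_val_inv, map_one, mul_one]

include hU in
/-- Affine case. -/
theorem spec_bijective (hc : IsCompact (U : Set (Spec A))) :
    Function.Bijective ((Spec A).presheaf.map (homOfLE (le_top : U ≤ ⊤)).op) := by
  refine ⟨fun a b hab => spec_sep hU a b ?_, fun x => ?_⟩
  · have h := congrArg (resR (inf_le_right : ⊤ ⊓ U ≤ U)) (show resR le_top a = resR le_top b from hab)
    rwa [resR_resR, resR_resR] at h
  choose W y hpW hy using fun p : {p : PrimeSpectrum A // p ∉ U} => extend_near hU hc x p.1 p.2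
  let C : Option {p : PrimeSpectrum A // p ∉ U} → (Spec A).Opens := fun o => o.elim U W
  let sect : ∀ o, Γ(Spec A, C o) := fun o => match o with
    | none => x
    | some p => y p
  have hsect : ∀ o, resR (inf_le_left : C o ⊓ U ≤ C o) (sect o) = resR inf_le_right x := by
    rintro (_ | p)
    · rfl
    · exact hy p
  have hcomp : TopCat.Presheaf.IsCompatible (Spec A).sheaf.presheaf C sect := by
    intro i j
    refine spec_sep hU _ _ ?_
    show resR _ (resR inf_le_left (sect i)) = resR _ (resR inf_le_right (sect j))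
    have key : ∀ o (O : (Spec A).Opens) (hO : O ≤ C o) (hO' : O ≤ U), resR hO (sect o) = resR hO' x := by
      intro o O hO hO'
      rw [← resR_resR (inf_le_left : C o ⊓ U ≤ C o) (le_inf hO hO'), hsect, resR_resR]
    rw [resR_resR, resR_resR, key i _ _ inf_le_right, key j _ _ inf_le_right]
  obtain ⟨g, hg, -⟩ := (Spec A).sheaf.existsUnique_gluing' C ⊤ (fun o => homOfLE le_top) (fun q _ => by
    by_cases hq : q ∈ U
    · exact Opens.mem_iSup.2 ⟨none, hq⟩
    · exact Opens.mem_iSup.2 ⟨some ⟨q, hq⟩, hpW ⟨q, hq⟩⟩) sect hcomp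
  exact ⟨g, hg none⟩

end Spec

variable {X : Scheme.{u}}

theorem inf_compact {V : X.Opens} (hV : IsAffineOpen V) (U : X.Opens) [QuasiCompact U.ι] :
    IsCompact ((V : Set X) ∩ U) := by
  have h := U.ι.isCompact_preimage hV.isCompact
  have h2 := h.image U.ι.continuous
  rwa [Scheme.Hom.coe_preimage, Set.image_preimage_eq_inter_range, Scheme.Opens.range_ι] at h2

/-- Noetherianity of the localisation from that of the stalk. -/
theorem noetherian_stalk {V : X.Opens} (hV : IsAffineOpen V) (x : X) (hx : x ∈ V)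
    (h : IsNoetherianRing (X.presheaf.stalk x)) :
    IsNoetherianRing (Localization.AtPrime (hV.primeIdealOf ⟨x, hx⟩).asIdeal) := by
  letI := TopCat.Presheaf.algebra_section_stalk X.presheaf ⟨x, hx⟩
  haveI : IsLocalization.AtPrime (X.presheaf.stalk x) (hV.primeIdealOf ⟨x, hx⟩).asIdeal :=
    hV.isLocalization_stalk ⟨x, hx⟩
  let σ := IsLocalization.algEquiv (hV.primeIdealOf ⟨x, hx⟩).asIdeal.primeCompl
    (Localization.AtPrime (hV.primeIdealOf ⟨x, hx⟩).asIdeal) (X.presheaf.stalk x)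
  exact @isNoetherianRing_of_ringEquiv _ _ _ _ σ.symm.toRingEquiv h

/-- The stalk at a point of an affine open has the depth of the localisation. -/
theorem depth_stalk_eq {V : X.Opens} (hV : IsAffineOpen V) (x : X) (hx : x ∈ V) :
    LocCoh.depth (Localization.AtPrime (hV.primeIdealOf ⟨x, hx⟩).asIdeal)
        (Localization.AtPrime (hV.primeIdealOf ⟨x, hx⟩).asIdeal) =
      LocCoh.depth (X.presheaf.stalk x) (X.presheaf.stalk x) := by
  letI := TopCat.Presheaf.algebra_section_stalk X.presheaf ⟨x, hx⟩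
  haveI : IsLocalization.AtPrime (X.presheaf.stalk x) (hV.primeIdealOf ⟨x, hx⟩).asIdeal :=
    hV.isLocalization_stalk ⟨x, hx⟩
  let σ := IsLocalization.algEquiv (hV.primeIdealOf ⟨x, hx⟩).asIdeal.primeCompl
    (Localization.AtPrime (hV.primeIdealOf ⟨x, hx⟩).asIdeal) (X.presheaf.stalk x)
  exact Alg6.depth_eq_of_semilinear σ.toRingEquiv.toRingHom σ.surjective σ.toRingEquiv.toAddEquiv
    (fun r z => map_mul σ r z)

/-- Restriction from an affine open is bijective. -/
theorem affine_bijective (U : X.Opens)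
    [QuasiCompact U.ι]
    (hU : ∀ x : X, x ∉ U → IsNoetherianRing (X.presheaf.stalk x) ∧ (2 : ℕ∞) ≤ LocCoh.depth (X.presheaf.stalk x) (X.presheaf.stalk x))
    {V : X.Opens} (hV : IsAffineOpen V) :
    Function.Bijective (X.presheaf.map (homOfLE (inf_le_left : V ⊓ U ≤ V)).op) := by
  have hsq := hV.fromSpec.naturality (homOfLE (inf_le_left : V ⊓ U ≤ V)).op
  have i1 : IsIso (hV.fromSpec.app V) := hV.fromSpec.isIso_app V (by rw [hV.opensRange_fromSpec])
  have i2 : IsIso (hV.fromSpec.app (V ⊓ U)) :=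
    hV.fromSpec.isIso_app (V ⊓ U) (by rw [hV.opensRange_fromSpec]; exact inf_le_left)
  have htop : hV.fromSpec ⁻¹ᵁ V = ⊤ := hV.fromSpec_preimage_self
  have hbij : Function.Bijective ((Spec Γ(X, V)).presheaf.map
      ((TopologicalSpace.Opens.map hV.fromSpec.base).op.map (homOfLE (inf_le_left : V ⊓ U ≤ V)).op)) := by
    have hcpt : IsCompact ((hV.fromSpec ⁻¹ᵁ (V ⊓ U) : (Spec Γ(X, V)).Opens) : Set (Spec Γ(X, V))) := by
      rw [hV.fromSpec.isOpenEmbedding.isInducing.isCompact_iff, Scheme.Hom.coe_preimage,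
        Set.image_preimage_eq_inter_range, hV.range_fromSpec, Opens.coe_inf,
        Set.inter_right_comm, Set.inter_self]
      exact inf_compact hV U
    have hD : DepthTwo (hV.fromSpec ⁻¹ᵁ (V ⊓ U)) := fun p hp => by
      have hxV : hV.fromSpec p ∈ V := by rw [← SetLike.mem_coe, ← hV.range_fromSpec]; exact ⟨p, rfl⟩
      have hxU : hV.fromSpec p ∉ U := fun h => hp ⟨hxV, h⟩
      have hp' : hV.primeIdealOf ⟨hV.fromSpec p, hxV⟩ = p :=
        hV.fromSpec.isOpenEmbedding.injective (hV.fromSpec_primeIdealOf ⟨hV.fromSpec p, hxV⟩)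
      have hd := (hU _ hxU).2.trans (depth_stalk_eq hV _ hxV).ge
      have hn := noetherian_stalk hV _ hxV (hU _ hxU).1
      rw [hp'] at hd hn
      exact ⟨hn, hd⟩
    have hspec := spec_bijective hD hcpt
    have e : (homOfLE (le_top : hV.fromSpec ⁻¹ᵁ (V ⊓ U) ≤ ⊤)).op =
        (eqToHom htop).op ≫ (TopologicalSpace.Opens.map hV.fromSpec.base).op.map (homOfLE (inf_le_left : V ⊓ U ≤ V)).op :=
      Subsingleton.elim _ _
    change Function.Bijective ((Spec Γ(X, V)).presheaf.map _) at hspec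
    rw [e, Functor.map_comp] at hspec
    exact (Function.Bijective.of_comp_iff _ (ConcreteCategory.bijective_of_isIso ((Spec Γ(X, V)).presheaf.map (eqToHom htop).op))).1 hspec
  have b1 := ConcreteCategory.bijective_of_isIso (hV.fromSpec.app V)
  have b2 := ConcreteCategory.bijective_of_isIso (hV.fromSpec.app (V ⊓ U))
  refine (Function.Bijective.of_comp_iff' b2 _).1 ?_
  have e : (hV.fromSpec.app (V ⊓ U) : Γ(X, V ⊓ U) → _) ∘ X.presheaf.map (homOfLE (inf_le_left : V ⊓ U ≤ V)).op =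
      (Spec Γ(X, V)).presheaf.map ((TopologicalSpace.Opens.map hV.fromSpec.base).op.map (homOfLE (inf_le_left : V ⊓ U ≤ V)).op) ∘
        (hV.fromSpec.app V : Γ(X, V) → _) := funext fun s => ConcreteCategory.congr_hom hsq s
  rw [e]
  exact hbij.comp b1

/-- Hartogs: restriction `Γ(X, W) → Γ(X, W ∩ U)` is bijective if all points outside `U` have depth
at least two. -/
theorem restrict_bijective (U : X.Opens)
    [QuasiCompact U.ι]
    (hU : ∀ x : X, x ∉ U → IsNoetherianRing (X.presheaf.stalk x) ∧ (2 : ℕ∞) ≤ LocCoh.depth (X.presheaf.stalk x) (X.presheaf.stalk x)) (W : X.Opens) :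
    Function.Bijective (X.presheaf.map (homOfLE (inf_le_left : W ⊓ U ≤ W)).op) := by
  have sep : ∀ (W : X.Opens) (s t : Γ(X, W)),
      X.presheaf.map (homOfLE (inf_le_left : W ⊓ U ≤ W)).op s = X.presheaf.map (homOfLE (inf_le_left : W ⊓ U ≤ W)).op t →
        s = t := by
    intro W s t hst
    refine X.sheaf.eq_of_locally_eq' (fun V : {V : X.affineOpens // (V : X.Opens) ≤ W} => (V.1 : X.Opens)) W
      (fun V => homOfLE V.2) (fun x hx => ?_) s t fun V => ?_
    · obtain ⟨V, hV, hxV, hVW⟩ := exists_isAffineOpen_mem_and_subset hx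
      exact Opens.mem_iSup.2 ⟨⟨⟨V, hV⟩, hVW⟩, hxV⟩
    · refine (affine_bijective U hU V.1.2).1 ?_
      show X.presheaf.map _ (X.presheaf.map (homOfLE V.2).op s) = X.presheaf.map _ (X.presheaf.map (homOfLE V.2).op t)
      rw [← ConcreteCategory.comp_apply, ← ConcreteCategory.comp_apply, ← X.presheaf.map_comp,
        Subsingleton.elim ((homOfLE V.2).op ≫ (homOfLE (inf_le_left : (V.1 : X.Opens) ⊓ U ≤ _)).op)
          ((homOfLE (inf_le_left : W ⊓ U ≤ W)).op ≫ (homOfLE (inf_le_inf_right U V.2)).op),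
        X.presheaf.map_comp, ConcreteCategory.comp_apply, ConcreteCategory.comp_apply, hst]
  refine ⟨fun s t h => sep W s t h, fun s => ?_⟩
  let ι := {V : X.affineOpens // (V : X.Opens) ≤ W}
  choose g hg using fun V : ι => (affine_bijective U hU V.1.2).2
    (X.presheaf.map (homOfLE (inf_le_inf_right U V.2)).op s)
  have hcompat : TopCat.Presheaf.IsCompatible X.sheaf.presheaf (fun V : ι => (V.1 : X.Opens)) g := by
    intro V V'
    refine sep _ _ _ ?_
    show X.presheaf.map _ (X.presheaf.map _ (g V)) = X.presheaf.map _ (X.presheaf.map _ (g V'))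
    have key : ∀ (V : ι) (O : X.Opens) (hO : O ≤ V.1) (hO' : O ≤ U) ,
        X.presheaf.map (homOfLE hO).op (g V) = X.presheaf.map (homOfLE (le_inf (hO.trans V.2) hO')).op s := by
      intro V O hO hO'
      rw [Subsingleton.elim (homOfLE hO).op ((homOfLE (inf_le_left : (V.1 : X.Opens) ⊓ U ≤ _)).op ≫ (homOfLE (le_inf hO hO')).op),
        X.presheaf.map_comp, ConcreteCategory.comp_apply, hg, ← ConcreteCategory.comp_apply, ← X.presheaf.map_comp]
      rfl
    rw [← ConcreteCategory.comp_apply, ← ConcreteCategory.comp_apply, ← X.presheaf.map_comp, ← X.presheaf.map_comp]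
    exact (key V _ (inf_le_left.trans inf_le_left) inf_le_right).trans
      (key V' _ (inf_le_left.trans inf_le_right) inf_le_right).symm
  have hcover : W ≤ iSup (fun V : ι => (V.1 : X.Opens)) := fun x hx => by
    obtain ⟨V, hV, hxV, hVW⟩ := exists_isAffineOpen_mem_and_subset hx
    exact Opens.mem_iSup.2 ⟨⟨⟨V, hV⟩, hVW⟩, hxV⟩
  obtain ⟨t, ht, -⟩ := X.sheaf.existsUnique_gluing' (fun V : ι => (V.1 : X.Opens)) W (fun V => homOfLE V.2) hcover g hcompat
  refine ⟨t, X.sheaf.eq_of_locally_eq' (fun V : ι => (V.1 : X.Opens) ⊓ U) (W ⊓ U)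
    (fun V => homOfLE (inf_le_inf_right U V.2)) (fun x hx => ?_) _ _ fun V => ?_⟩
  · obtain ⟨V, hxV⟩ := Opens.mem_iSup.1 (hcover hx.1)
    exact Opens.mem_iSup.2 ⟨V, hxV, hx.2⟩
  · show X.presheaf.map _ (X.presheaf.map _ t) = X.presheaf.map _ s
    refine Eq.trans ?_ (hg V)
    have key2 : ∀ t' : Γ(X, W), X.presheaf.map (homOfLE (inf_le_inf_right U V.2)).op
          (X.presheaf.map (homOfLE (inf_le_left : W ⊓ U ≤ W)).op t') =
        X.presheaf.map (homOfLE (inf_le_left : (V.1 : X.Opens) ⊓ U ≤ _)).op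
          (X.presheaf.map (homOfLE V.2).op t') := fun t' => by
      rw [← ConcreteCategory.comp_apply, ← ConcreteCategory.comp_apply, ← X.presheaf.map_comp, ← X.presheaf.map_comp]
      rfl
    exact (key2 t).trans (congrArg _ (ht V))

/-- Morphisms to affine schemes extend uniquely. -/
theorem existsUnique_extension (U : X.Opens)
    [QuasiCompact U.ι]
    (hU : ∀ x : X, x ∉ U → IsNoetherianRing (X.presheaf.stalk x) ∧ (2 : ℕ∞) ≤ LocCoh.depth (X.presheaf.stalk x) (X.presheaf.stalk x))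
    {Y : Scheme.{u}} [IsAffine Y] (f : (U : Scheme.{u}) ⟶ Y) : ∃! g : X ⟶ Y, U.ι ≫ g = f := by
  haveI : IsIso U.ι.appTop := by
    rw [ConcreteCategory.isIso_iff_bijective, Scheme.Opens.ι_appTop]
    let e := homOfLE (le_inf le_top U.ι_image_top.le : U.ι ''ᵁ ⊤ ≤ ⊤ ⊓ U)
    haveI : IsIso e := by
      have h : U.ι ''ᵁ ⊤ = ⊤ ⊓ U := U.ι_image_top.trans (top_inf_eq U).symm
      rw [Subsingleton.elim e (eqToHom h)]
      infer_instance
    have h2 := ConcreteCategory.bijective_of_isIso (X.presheaf.map e.op)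
    have h1 := restrict_bijective U hU ⊤
    have h12 := h2.comp h1
    have e4 : ∀ a : Γ(X, ⊤), X.presheaf.map (homOfLE (le_top : U.ι ''ᵁ ⊤ ≤ ⊤)).op a =
        X.presheaf.map e.op (X.presheaf.map (homOfLE (inf_le_left : (⊤ : X.Opens) ⊓ U ≤ ⊤)).op a) := fun a => by
      rw [← ConcreteCategory.comp_apply, ← X.presheaf.map_comp]
      rfl
    constructor
    · intro a b hab
      exact h12.1 ((e4 a).symm.trans (hab.trans (e4 b)))
    · intro c
      obtain ⟨a, ha⟩ := h12.2 c
      exact ⟨a, (e4 a).trans ha⟩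
  refine ⟨X.toSpecΓ ≫ Spec.map (f.appTop ≫ inv U.ι.appTop) ≫ Y.isoSpec.inv, ?_, fun g hg => ?_⟩
  · show U.ι ≫ X.toSpecΓ ≫ Spec.map (f.appTop ≫ inv U.ι.appTop) ≫ Y.isoSpec.inv = f
    rw [Scheme.toSpecΓ_naturality_assoc, ← Spec.map_comp_assoc, Category.assoc, IsIso.inv_hom_id, Category.comp_id,
      ← Scheme.toSpecΓ_naturality_assoc]
    show f ≫ Y.isoSpec.hom ≫ Y.isoSpec.inv = f
    rw [Iso.hom_inv_id, Category.comp_id]
  · refine ext_of_isAffine ((cancel_mono U.ι.appTop).1 ?_)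
    rw [← Scheme.Hom.comp_appTop, ← Scheme.Hom.comp_appTop, hg]
    congr 1
    rw [Scheme.toSpecΓ_naturality_assoc, ← Spec.map_comp_assoc, Category.assoc, IsIso.inv_hom_id, Category.comp_id,
      ← Scheme.toSpecΓ_naturality_assoc]
    show f = f ≫ Y.isoSpec.hom ≫ Y.isoSpec.inv
    rw [Iso.hom_inv_id, Category.comp_id]

end Groth.Agent.Hartogs28
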