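import Groth.Agent.Hartogs28.Basic
import Groth.Agent.MiscTwoH99.DepthExt

/-!
# Extension of morphisms across points with Noetherian local rings of depth at least two
-/

set_option linter.style.haveILetI false

universe u

open CategoryTheory AlgebraicGeometry TopologicalSpace CategoryTheory.Limits

namespace Groth.Agent.Hartogs28

/-- The preimage of a retrocompact open along any morphism is retrocompact. -/
theorem quasiCompact_preimage {X X' : Scheme.{u}} (a : X' ⟶ X) (O : X.Opens) [QuasiCompact O.ι] :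
    QuasiCompact (a ⁻¹ᵁ O).ι :=
  MorphismProperty.of_isPullback (P := @QuasiCompact) (isPullback_morphismRestrict a O) ‹_›

/-- The depth condition passes to open subschemes. -/
theorem depthTwo_preimage {X X' : Scheme.{u}} (a : X' ⟶ X) [IsOpenImmersion a] (O : X.Opens)
    (hO : ∀ x : X, x ∉ O → IsNoetherianRing (X.presheaf.stalk x) ∧
      (2 : ℕ∞) ≤ LocCoh.depth (X.presheaf.stalk x) (X.presheaf.stalk x)) :
    ∀ x : X', x ∉ a ⁻¹ᵁ O → IsNoetherianRing (X'.presheaf.stalk x) ∧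
      (2 : ℕ∞) ≤ LocCoh.depth (X'.presheaf.stalk x) (X'.presheaf.stalk x) := fun x hx => by
  obtain ⟨h1, h2⟩ := hO (a x) hx
  exact ⟨@isNoetherianRing_of_ringEquiv _ _ _ _ (asIso (a.stalkMap x)).commRingCatIsoToRingEquiv h1,
    h2.trans (MiscTwoH99.depth_stalk_le_of_flat a x)⟩

variable {X Y S : Scheme.{u}}

/-- An open with depth at least two outside is schematically dense. -/
lemma isSchematicallyDense_of_depth (O : X.Opens) [QuasiCompact O.ι]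
    (hO : ∀ x : X, x ∉ O → IsNoetherianRing (X.presheaf.stalk x) ∧ (2 : ℕ∞) ≤ LocCoh.depth (X.presheaf.stalk x) (X.presheaf.stalk x)) :
    CInt.IsSchematicallyDense O :=
  fun V => (Hartogs28.restrict_bijective O hO V).1

/-- Restriction of the piece `H` of an extension to an arbitrary scheme over the piece. -/
private lemma comp_restrict {P X' : Scheme.{u}} (ι : X' ⟶ X) (O : X.Opens)
    (g : (O : Scheme.{u}) ⟶ Y) (H : X' ⟶ Y) (hH : (ι ⁻¹ᵁ O).ι ≫ H = (ι ∣_ O) ≫ g)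
    (m : P ⟶ X') (p : P ⟶ X) (hp : m ≫ ι = p) :
    (p ⁻¹ᵁ O).ι ≫ m ≫ H = (p ∣_ O) ≫ g := by
  subst hp
  rw [morphismRestrict_comp]
  exact ((morphismRestrict_ι_assoc m (ι ⁻¹ᵁ O) H).symm.trans
    (congrArg (fun t => (m ∣_ ι ⁻¹ᵁ O) ≫ t) hH)).trans (Category.assoc _ _ _).symm

/-- A morphism to a scheme affine over `S` extends uniquely across points of depth at least two. -/
theorem existsUnique_extension_over (O : X.Opens) [QuasiCompact O.ι]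
    (hO : ∀ x : X, x ∉ O → IsNoetherianRing (X.presheaf.stalk x) ∧ (2 : ℕ∞) ≤ LocCoh.depth (X.presheaf.stalk x) (X.presheaf.stalk x))
    (q : X ⟶ S) (z : Y ⟶ S) [IsAffineHom z]
    (g : (O : Scheme.{u}) ⟶ Y) (hg : g ≫ z = O.ι ≫ q) :
    ∃! h : X ⟶ Y, h ≫ z = q ∧ O.ι ≫ h = g := by
  have hdense := isSchematicallyDense_of_depth O hO
  refine existsUnique_of_exists_of_unique ?_ fun h₁ h₂ e₁ e₂ =>
    SchDenseLib.hom_ext hdense z h₁ h₂ (e₁.1.trans e₂.1.symm) (e₁.2.trans e₂.2.symm)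
  have piece : ∀ V : S.affineOpens, ∃ H : ((q ⁻¹ᵁ V.1 : X.Opens) : Scheme.{u}) ⟶ Y,
      H ≫ z = (q ⁻¹ᵁ V.1).ι ≫ q ∧
        ((q ⁻¹ᵁ V.1).ι ⁻¹ᵁ O).ι ≫ H = ((q ⁻¹ᵁ V.1).ι ∣_ O) ≫ g := by
    intro V
    let a := (q ⁻¹ᵁ V.1).ι
    have : IsAffine (z ⁻¹ᵁ V.1 : Scheme.{u}) := V.2.preimage z
    have : IsAffine (V.1 : Scheme.{u}) := V.2
    haveI : QuasiCompact (a ⁻¹ᵁ O).ι := quasiCompact_preimage a O
    have hO' := depthTwo_preimage a O hO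
    have e : ((a ∣_ O) ≫ g) ≫ z = (a ⁻¹ᵁ O).ι ≫ a ≫ q := by
      rw [Category.assoc, hg, morphismRestrict_ι_assoc]
    have hrange : Set.range ((a ∣_ O) ≫ g) ⊆ Set.range (z ⁻¹ᵁ V.1).ι := by
      rw [Scheme.Opens.range_ι]
      rintro _ ⟨x, rfl⟩
      show z (((a ∣_ O) ≫ g) x) ∈ V.1
      rw [show z (((a ∣_ O) ≫ g) x) = q (a ((a ⁻¹ᵁ O).ι x)) from
        congrArg (fun m : (a ⁻¹ᵁ O : Scheme.{u}) ⟶ S => m x) e]
      exact ((a ⁻¹ᵁ O).ι x).2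
    let g' := IsOpenImmersion.lift (z ⁻¹ᵁ V.1).ι ((a ∣_ O) ≫ g) hrange
    obtain ⟨H, hH, -⟩ := Hartogs28.existsUnique_extension (a ⁻¹ᵁ O) hO' g'
    refine ⟨H ≫ (z ⁻¹ᵁ V.1).ι, ?_, ?_⟩
    · have h' : H ≫ (z ∣_ V.1) = (q ∣_ V.1) := by
        refine (Hartogs28.existsUnique_extension (a ⁻¹ᵁ O) hO'
          ((a ⁻¹ᵁ O).ι ≫ (q ∣_ V.1))).unique ?_ rfl
        rw [← cancel_mono V.1.ι, Category.assoc, Category.assoc, Category.assoc,
          morphismRestrict_ι, morphismRestrict_ι, reassoc_of% hH]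
        exact (IsOpenImmersion.lift_fac_assoc _ _ hrange z).trans e
      rw [Category.assoc, ← morphismRestrict_ι, ← Category.assoc, h', morphismRestrict_ι]
    · rw [reassoc_of% hH]
      exact IsOpenImmersion.lift_fac _ _ hrange
  choose H hHz hHO using piece
  have hcov : IsOpenCover (fun V : S.affineOpens => q ⁻¹ᵁ V.1) := by
    rw [IsOpenCover, eq_top_iff]
    intro x _
    obtain ⟨V, hV, hxV, -⟩ := Opens.isBasis_iff_nbhd.1 S.isBasis_affineOpens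
      (show q x ∈ (⊤ : S.Opens) from trivial)
    exact Opens.mem_iSup.2 ⟨⟨V, hV⟩, hxV⟩
  let 𝒰 : X.OpenCover := X.openCoverOfIsOpenCover _ hcov
  have compat : ∀ V W : S.affineOpens,
      pullback.fst (q ⁻¹ᵁ V.1).ι (q ⁻¹ᵁ W.1).ι ≫ H V =
        pullback.snd (q ⁻¹ᵁ V.1).ι (q ⁻¹ᵁ W.1).ι ≫ H W := by
    intro V W
    let p := pullback.fst (q ⁻¹ᵁ V.1).ι (q ⁻¹ᵁ W.1).ι ≫ (q ⁻¹ᵁ V.1).ι
    haveI : IsOpenImmersion p := inferInstance
    haveI : QuasiCompact (p ⁻¹ᵁ O).ι := quasiCompact_preimage p O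
    refine SchDenseLib.hom_ext (isSchematicallyDense_of_depth (p ⁻¹ᵁ O) (depthTwo_preimage p O hO)) z _ _ ?_ ?_
    · rw [Category.assoc, Category.assoc, hHz, hHz, ← Category.assoc, ← Category.assoc,
        pullback.condition]
    · rw [comp_restrict _ O g (H V) (hHO V) _ p rfl,
        comp_restrict _ O g (H W) (hHO W) _ p pullback.condition.symm]
  refine ⟨𝒰.glueMorphisms H compat, ?_, ?_⟩
  · refine 𝒰.hom_ext _ _ fun V => ?_
    exact ((Category.assoc _ _ _).symm.trans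
      (congrArg (· ≫ z) (𝒰.ι_glueMorphisms H compat V))).trans (hHz V)
  · refine (Scheme.openCoverOfIsOpenCover (O : Scheme.{u}) _
      (hcov.comap ⟨O.ι, O.ι.continuous⟩)).hom_ext _ _ fun V => ?_
    show (O.ι ⁻¹ᵁ (q ⁻¹ᵁ V.1)).ι ≫ O.ι ≫ _ = _
    rw [← morphismRestrict_ι_assoc O.ι]
    have e1 : (q ⁻¹ᵁ V.1).ι ≫ 𝒰.glueMorphisms H compat = H V := 𝒰.ι_glueMorphisms H compat V
    rw [e1]
    let c : (O.ι ⁻¹ᵁ (q ⁻¹ᵁ V.1) : Scheme.{u}) ⟶ (((q ⁻¹ᵁ V.1).ι ⁻¹ᵁ O : _) : Scheme.{u}) :=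
      IsOpenImmersion.lift ((q ⁻¹ᵁ V.1).ι ⁻¹ᵁ O).ι (O.ι ∣_ (q ⁻¹ᵁ V.1)) (by
        rw [Scheme.Opens.range_ι]
        rintro _ ⟨x, rfl⟩
        show (q ⁻¹ᵁ V.1).ι ((O.ι ∣_ (q ⁻¹ᵁ V.1)) x) ∈ O
        rw [show (q ⁻¹ᵁ V.1).ι ((O.ι ∣_ (q ⁻¹ᵁ V.1)) x) = O.ι ((O.ι ⁻¹ᵁ (q ⁻¹ᵁ V.1)).ι x) from
          congrArg (fun m : (O.ι ⁻¹ᵁ (q ⁻¹ᵁ V.1) : Scheme.{u}) ⟶ X => m x) (morphismRestrict_ι _ _)]
        exact ((O.ι ⁻¹ᵁ (q ⁻¹ᵁ V.1)).ι x).2)
    have hc : c ≫ ((q ⁻¹ᵁ V.1).ι ⁻¹ᵁ O).ι = O.ι ∣_ (q ⁻¹ᵁ V.1) := IsOpenImmersion.lift_fac _ _ _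
    have hc2 : c ≫ ((q ⁻¹ᵁ V.1).ι ∣_ O) = (O.ι ⁻¹ᵁ (q ⁻¹ᵁ V.1)).ι := by
      rw [← cancel_mono O.ι, Category.assoc, morphismRestrict_ι, reassoc_of% hc, morphismRestrict_ι]
    rw [← hc, Category.assoc]
    exact ((congrArg (c ≫ ·) (hHO V)).trans (Category.assoc _ _ _).symm).trans (congrArg (· ≫ g) hc2)

end Groth.Agent.Hartogs28
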